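import Groth.Prelude.Def_W4c5suslinpi1abAdj
import Mathlib

/-!
Identities for projection morphisms and exterior products of monoidal adjunctions.
-/

universe v u

open CategoryTheory MonoidalCategory Functor.LaxMonoidal Functor.OplaxMonoidal

namespace Groth.Agent.SuslinAdjLib

open W4c5suslinpi1ab

section One

variable {C : Type u} [Category.{v} C] [MonoidalCategory C]
variable {D : Type u} [Category.{v} D] [MonoidalCategory D]
variable {L : C ⥤ D} {R : D ⥤ C} (adj : L ⊣ R)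

@[reassoc]
lemma projR_natural [R.LaxMonoidal] {A A' : D} {B B' : C} (a : A ⟶ A') (b : B ⟶ B') :
    (R.map a ⊗ₘ b) ≫ projR adj A' B' = projR adj A B ≫ R.map (a ⊗ₘ L.map b) := by
  have h : b ≫ adj.unit.app B' = adj.unit.app B ≫ R.map (L.map b) := adj.unit.naturality b
  rw [projR, projR, Category.assoc, ← μ_natural, ← Category.assoc, ← Category.assoc]
  congr 1
  rw [← id_tensorHom, ← id_tensorHom, tensorHom_comp_tensorHom, tensorHom_comp_tensorHom, h]
  simp

@[reassoc]
lemma projL_natural [R.LaxMonoidal] {A A' : C} {B B' : D} (a : A ⟶ A') (b : B ⟶ B') :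
    (a ⊗ₘ R.map b) ≫ projL adj A' B' = projL adj A B ≫ R.map (L.map a ⊗ₘ b) := by
  have h : a ≫ adj.unit.app A' = adj.unit.app A ≫ R.map (L.map a) := adj.unit.naturality a
  rw [projL, projL, Category.assoc, ← μ_natural, ← Category.assoc, ← Category.assoc]
  congr 1
  rw [← tensorHom_id, ← tensorHom_id, tensorHom_comp_tensorHom, tensorHom_comp_tensorHom, h]
  simp

variable [L.OplaxMonoidal] [R.LaxMonoidal] [adj.IsMonoidal]

lemma symm_projR (A : D) (B : C) :
    (adj.homEquiv _ _).symm (projR adj A B) = δ L (R.obj A) B ≫ (adj.counit.app A ▷ L.obj B) := by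
  rw [Adjunction.homEquiv_counit, projR, Functor.map_comp, Category.assoc,
    adj.map_μ_comp_counit_app_tensor]
  erw [← δ_natural_right_assoc]
  congr 1
  rw [← tensorHom_id, ← id_tensorHom]
  erw [tensorHom_comp_tensorHom]
  simp

lemma symm_projL (A : C) (B : D) :
    (adj.homEquiv _ _).symm (projL adj A B) = δ L A (R.obj B) ≫ (L.obj A ◁ adj.counit.app B) := by
  rw [Adjunction.homEquiv_counit, projL, Functor.map_comp, Category.assoc,
    adj.map_μ_comp_counit_app_tensor]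
  erw [← δ_natural_left_assoc]
  congr 1
  rw [← tensorHom_id, ← id_tensorHom]
  erw [tensorHom_comp_tensorHom]
  simp

end One

section Square

variable {S₀ : Type u} [Category.{v} S₀] [MonoidalCategory S₀]
  {Y₁ : Type u} [Category.{v} Y₁] [MonoidalCategory Y₁]
  {Y₂ : Type u} [Category.{v} Y₂] [MonoidalCategory Y₂]
  {X : Type u} [Category.{v} X] [MonoidalCategory X]
  {fL : S₀ ⥤ Y₁} {fR : Y₁ ⥤ S₀} (adjf : fL ⊣ fR) [fR.LaxMonoidal]
  {gR : Y₂ ⥤ S₀}
  {pL : Y₁ ⥤ X} {pR : X ⥤ Y₁} (adjp : pL ⊣ pR) [pR.LaxMonoidal]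
  {qL : Y₂ ⥤ X} {qR : X ⥤ Y₂} (adjq : qL ⊣ qR)
  (ν : qR ⋙ gR ⟶ pR ⋙ fR)

@[reassoc]
lemma extProd_natural {A A' : Y₁} {B B' : Y₂} (a : A ⟶ A') (b : B ⟶ B') :
    (fR.map a ⊗ₘ gR.map b) ≫ extProd adjf adjp adjq ν A' B' =
      extProd adjf adjp adjq ν A B ≫ fR.map (pR.map (pL.map a ⊗ₘ qL.map b)) := by
  have h : fL.map (gR.map b) ≫ (bcMor adjf adjq ν).app B' =
      (bcMor adjf adjq ν).app B ≫ pR.map (qL.map b) := (bcMor adjf adjq ν).naturality b
  rw [extProd, extProd, projR_natural_assoc, Category.assoc, Category.assoc]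
  congr 1
  simp only [← Functor.map_comp]
  congr 1
  rw [← projL_natural, ← id_tensorHom, ← id_tensorHom, ← Category.assoc, ← Category.assoc,
    tensorHom_comp_tensorHom, tensorHom_comp_tensorHom, h]
  simp

lemma isIso_extProd [∀ (A : Y₁) (B : S₀), IsIso (projR adjf A B)]
    [∀ (A : Y₁) (B : X), IsIso (projL adjp A B)]
    [∀ B : Y₂, IsIso ((bcMor adjf adjq ν).app B)] (A : Y₁) (B : Y₂) :
    IsIso (extProd adjf adjp adjq ν A B) := by
  unfold extProd; infer_instance

variable {fS : S₀ ⥤ Y₁} (adjf' : fR ⊣ fS) {gS : S₀ ⥤ Y₂} (adjg' : gR ⊣ gS)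
  {pS : Y₁ ⥤ X} (adjp' : pR ⊣ pS)
  [∀ (A : Y₁) (B : S₀), IsIso (projR adjf A B)]
  [∀ (A : Y₁) (B : X), IsIso (projL adjp A B)]
  [∀ B : Y₂, IsIso ((bcMor adjf adjq ν).app B)]

lemma symm_prodShriek (A B : S₀) :
    (adjp'.homEquiv _ _).symm (prodShriek adjf adjf' adjg' adjp adjp' adjq ν A B) =
      inv (projL adjp (fS.obj A) (qL.obj (gS.obj B))) ≫
        (fS.obj A ◁ inv ((bcMor adjf adjq ν).app (gS.obj B))) ≫
        cupShriek adjf adjf' A (gR.obj (gS.obj B)) ≫ fS.map (A ◁ adjg'.counit.app B) := by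
  simp [prodShriek]

lemma extProd_shriek_K (A B : S₀) :
    extProd adjf adjp adjq ν (fS.obj A) (gS.obj B) ≫
      fR.map ((adjp'.homEquiv _ _).symm (prodShriek adjf adjf' adjg' adjp adjp' adjq ν A B)) =
    projR adjf (fS.obj A) (gR.obj (gS.obj B)) ≫
      fR.map (cupShriek adjf adjf' A (gR.obj (gS.obj B)) ≫ fS.map (A ◁ adjg'.counit.app B)) := by
  rw [symm_prodShriek, extProd]
  simp only [Category.assoc, ← Functor.map_comp, IsIso.hom_inv_id_assoc]
  rw [← MonoidalCategory.whiskerLeft_comp_assoc, IsIso.hom_inv_id]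
  simp

lemma extProd_shriek (A B : S₀) :
    extProd adjf adjp adjq ν (fS.obj A) (gS.obj B) ≫
      ((adjp'.comp adjf').homEquiv _ _).symm
        (prodShriek adjf adjf' adjg' adjp adjp' adjq ν A B) =
      (adjf'.counit.app A ⊗ₘ adjg'.counit.app B) := by
  rw [Adjunction.comp_homEquiv, Equiv.symm_trans_apply, Adjunction.homEquiv_counit]
  rw [← Category.assoc, extProd_shriek_K, Category.assoc, ← Adjunction.homEquiv_counit,
    Adjunction.homEquiv_naturality_right_symm, cupShriek, Equiv.symm_apply_apply, Category.assoc,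
    IsIso.hom_inv_id_assoc, MonoidalCategory.tensorHom_def]
  rfl

@[reassoc]
lemma cupShriek_natural (A : S₀) {B B' : S₀} (b : B ⟶ B') :
    (fS.obj A ◁ fL.map b) ≫ cupShriek adjf adjf' A B' =
      cupShriek adjf adjf' A B ≫ fS.map (A ◁ b) := by
  rw [cupShriek, cupShriek, ← Adjunction.homEquiv_naturality_left,
    ← Adjunction.homEquiv_naturality_right]
  congr 1
  have h : (fR.obj (fS.obj A) ◁ b) ≫ projR adjf (fS.obj A) B' =
      projR adjf (fS.obj A) B ≫ fR.map (fS.obj A ◁ fL.map b) := by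
    simpa using projR_natural adjf (𝟙 (fS.obj A)) b
  rw [← cancel_epi (projR adjf (fS.obj A) B), ← reassoc_of% h]
  simp [MonoidalCategory.whisker_exchange]

end Square

end Groth.Agent.SuslinAdjLib
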